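import Groth.Agent.Fano.K305.DimA
import Groth.Agent.Fano.K714.FrIrr

/-!
# Covers of lines on a cubic threefold (job CC10, node NE of `K470.PlanCurve`)

`NN T e`: parametrised curves of degree at most `e` contained in a line of the threefold.

* `irr_NN`: irreducible; `dimGE_NN`: of dimension at least `2e+4` (from `DimGE k (FR T) 6`).
* `comb_mem`: a comb all of whose teeth lie on one line is in the closure of `Ov (NN T e)`.
* `finrank_le_of_cl`: curves in the closure of `NN T e` have rank at most two.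
* `rank_le_of_const`: the node, from the other nodes as hypotheses.
-/

set_option autoImplicit false

universe u

namespace K805.LineCov

open LefPen Groth.Agent.Lefpen.H703.ZOpen Module K714.Irr K714.Frames K470.Cur K656.Trilin K714.Surf

/-! ### Polynomial maps into products -/

section Pi

variable {k : Type u} [Field k] {V W : Type u} [AddCommGroup V] [Module k V] [AddCommGroup W] [Module k W]

theorem pm_sum {ι : Type*} (s : Finset ι) {φ : ι → V → W} (h : ∀ i ∈ s, IsPolyMap k (φ i)) :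
    IsPolyMap k (fun v => ∑ i ∈ s, φ i v) := fun l => by
  simp only [map_sum]
  exact pf_sum s fun i hi => h i hi l

theorem pm_pi {ι : Type} [Finite ι] {φ : V → ι → W} (h : ∀ i, IsPolyMap k (fun v => φ v i)) : IsPolyMap k φ := by
  classical
  cases nonempty_fintype ι
  have h1 : φ = fun v => ∑ i, (LinearMap.single k (fun _ : ι => W) i) (φ v i) := by
    funext v
    simp only [LinearMap.coe_single]
    exact (Finset.univ_sum_single (φ v)).symm
  rw [h1]
  exact pm_sum _ fun i _ => pm_comp (isPolyMap_linear _) (h i)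

theorem pm_proj {ι : Type} [Finite ι] {φ : V → ι → W} (h : IsPolyMap k φ) (i : ι) :
    IsPolyMap k (fun v => φ v i) :=
  pm_comp (isPolyMap_linear (LinearMap.proj (R := k) (φ := fun _ : ι => W) i)) h

end Pi

variable {k : Type u} [Field k]
variable {T : (Fin 5 → k) →ₗ[k] (Fin 5 → k) →ₗ[k] (Fin 5 → k) →ₗ[k] k}

variable (T) in
/-- covers of lines -/
def NN (e : ℕ) : Set (A k e) := {a | ∃ p ∈ FR T, ∀ i, a i ∈ Submodule.span k {p.1, p.2}}

theorem ev_mem {e : ℕ} {a : A k e} {S : Submodule k (Fin 5 → k)} (h : ∀ i, a i ∈ S) (s : k) : ev a s ∈ S :=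
  S.sum_mem fun i _ => S.smul_mem _ (h i)

theorem NN_subset (hT : IsSym3 T) {e : ℕ} : NN T e ⊆ Z T e := by
  rintro a ⟨p, ⟨-, h1, h2, h3, h4⟩, ha⟩ s
  obtain ⟨c, d, h⟩ := Submodule.mem_span_pair.1 (ev_mem ha s)
  rw [← h, hT.cube_smul_add_smul, h1, h2, h3, h4]
  ring

/-- the parametrisation of `NN` -/
def par (e : ℕ) (y : ((Fin 5 → k) × (Fin 5 → k)) × ((Fin (e + 1) → k) × (Fin (e + 1) → k))) : A k e :=
  fun i => y.2.1 i • y.1.1 + y.2.2 i • y.1.2

theorem pm_par (e : ℕ) : IsPolyMap k (par (k := k) e) := by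
  refine pm_pi fun i => pm_add (pm_smul ?_ (pm_comp isPolyMap_fst isPolyMap_fst))
    (pm_smul ?_ (pm_comp isPolyMap_snd isPolyMap_fst))
  · exact isPolyMap_iff_isPolyFun.1 (pm_proj (pm_comp isPolyMap_fst isPolyMap_snd) i)
  · exact isPolyMap_iff_isPolyFun.1 (pm_proj (pm_comp isPolyMap_snd isPolyMap_snd) i)

theorem NN_eq (e : ℕ) : NN T e = par e '' {y | y.1 ∈ FR T} := by
  ext a
  constructor
  · rintro ⟨p, hp, h⟩
    choose c d h using fun i => Submodule.mem_span_pair.1 (h i)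
    exact ⟨(p, (c, d)), hp, funext h⟩
  · rintro ⟨⟨p, c, d⟩, hp, rfl⟩
    exact ⟨p, hp, fun i => Submodule.mem_span_pair.2 ⟨c i, d i, rfl⟩⟩

theorem irr_NN [Infinite k] (hF : Irr k (FR T)) (e : ℕ) : Irr k (NN T e) := by
  rw [NN_eq]
  exact hF.prod_univ.image (pm_par e)

/-! ### Dimension -/

theorem dimGE_of_index {W : Type u} [AddCommGroup W] [Module k W] {S : Set W} {ι : Type} [Fintype ι] {d : ℕ}
    (hc : Fintype.card ι = d) {φ : W → ι → k} (hφ : IsPolyMap k φ)
    (h : ∀ O : Set (ι → k), IsZOpen k O → O.Nonempty → ∃ s ∈ S, φ s ∈ O) : DimGE k S d := by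
  let e : ι ≃ Fin d := Fintype.equivFinOfCardEq hc
  refine ⟨fun w i => φ w (e.symm i), pm_pi fun i => pm_proj hφ (e.symm i), fun O hO hne => ?_⟩
  obtain ⟨s, hs, h1⟩ := h ((fun y : ι → k => fun i : Fin d => y (e.symm i)) ⁻¹' O)
    (zo_preimage hO (pm_pi fun i => pm_proj isPolyMap_id (e.symm i))) (by
      obtain ⟨y, hy⟩ := hne
      refine ⟨fun i => y (e i), ?_⟩
      simpa using hy)
  exact ⟨s, hs, h1⟩

theorem dimGE_NN (hF : Irr k (FR T)) (h6 : DimGE k (FR T) 6) {e : ℕ} (he : 1 ≤ e) :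
    DimGE k (NN T e) (2 * e + 4) := by
  obtain ⟨e', rfl⟩ : ∃ e', e = e' + 1 := ⟨e - 1, by omega⟩
  obtain ⟨φ0, hφ0, hd⟩ := h6
  obtain ⟨p₀, hp₀⟩ := hF.1
  obtain ⟨l, hl⟩ := K713.RangeOpen.exists_dual_det hp₀.1
  have hopen : IsZOpen k {p : (Fin 5 → k) × (Fin 5 → k) | l 0 p.1 * l 1 p.2 - l 0 p.2 * l 1 p.1 ≠ 0} := by
    refine isZOpen_basic ?_
    exact pf_sub (pf_mul (isPolyMap_fst _) (isPolyMap_snd _)) (pf_mul (isPolyMap_snd _) (isPolyMap_fst _))
  have hp₀' : l 0 p₀.1 * l 1 p₀.2 - l 0 p₀.2 * l 1 p₀.1 ≠ 0 := by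
    rw [Matrix.det_fin_two] at hl
    simpa using hl
  let φ : A k (e' + 1) → (Fin 6 ⊕ (Fin e' × Fin 2)) → k := fun a =>
    Sum.elim (φ0 (a 0, a 1)) (fun ij => l ij.2 (a ij.1.succ.succ))
  have hφ : IsPolyMap k φ := by
    refine pm_pi ?_
    rintro (i | ij)
    · exact pm_proj (pm_comp hφ0 (pm_prodMk (pm_proj isPolyMap_id 0) (pm_proj isPolyMap_id 1))) i
    · exact pm_comp (isPolyMap_linear (l ij.2)) (pm_proj isPolyMap_id ij.1.succ.succ)
  refine dimGE_of_index (ι := Fin 6 ⊕ (Fin e' × Fin 2)) (by simp; ring) hφ fun O hO hne => ?_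
  obtain ⟨w, hw⟩ := hne
  let z : Fin e' × Fin 2 → k := fun ij => w (Sum.inr ij)
  have hz : IsPolyMap k (fun y : Fin 6 → k => (Sum.elim y z : (Fin 6 ⊕ (Fin e' × Fin 2)) → k)) := by
    refine pm_pi ?_
    rintro (i | ij)
    · exact pm_proj isPolyMap_id i
    · exact isPolyMap_const _
  obtain ⟨p₁, hp₁, hp₁O⟩ := hd _ (zo_preimage hO hz) ⟨fun i => w (Sum.inl i), by
    show (Sum.elim (fun i => w (Sum.inl i)) z : (Fin 6 ⊕ (Fin e' × Fin 2)) → k) ∈ O
    have : (Sum.elim (fun i => w (Sum.inl i)) z : (Fin 6 ⊕ (Fin e' × Fin 2)) → k) = w := by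
      funext i
      rcases i with i | i <;> rfl
    rw [this]
    exact hw⟩
  obtain ⟨p, hp, hpO, hpD⟩ := hF.2 _ _ (zo_preimage (zo_preimage hO hz) hφ0) hopen ⟨p₁, hp₁, hp₁O⟩ ⟨p₀, hp₀, hp₀'⟩
  set D := l 0 p.1 * l 1 p.2 - l 0 p.2 * l 1 p.1 with hD
  let c : Fin e' → k := fun i => (z (i, 0) * l 1 p.2 - z (i, 1) * l 0 p.2) / D
  let d : Fin e' → k := fun i => (z (i, 1) * l 0 p.1 - z (i, 0) * l 1 p.1) / D
  refine ⟨Fin.cons p.1 (Fin.cons p.2 fun i => c i • p.1 + d i • p.2), ⟨p, hp, ?_⟩, ?_⟩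
  · intro i
    refine Fin.cases ?_ (fun i => Fin.cases ?_ (fun i => ?_) i) i
    · exact Submodule.subset_span (by simp)
    · exact Submodule.subset_span (by simp)
    · exact Submodule.mem_span_pair.2 ⟨c i, d i, rfl⟩
  · have h1 : φ (Fin.cons p.1 (Fin.cons p.2 fun i => c i • p.1 + d i • p.2)) = Sum.elim (φ0 p) z := by
      funext i
      rcases i with i | ⟨i, j⟩
      · rfl
      · show l j (c i • p.1 + d i • p.2) = z (i, j)
        rw [map_add, map_smul, map_smul, smul_eq_mul, smul_eq_mul]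
        have hD0 : D ≠ 0 := hpD
        fin_cases j
        · simp only [c, d, Fin.zero_eta, Fin.isValue]
          rw [div_mul_eq_mul_div, div_mul_eq_mul_div, ← add_div, div_eq_iff hD0, hD]
          ring
        · simp only [c, d, Fin.mk_one, Fin.isValue]
          rw [div_mul_eq_mul_div, div_mul_eq_mul_div, ← add_div, div_eq_iff hD0, hD]
          ring
    rw [h1]
    exact hpO

/-! ### The comb with all teeth on one line -/

theorem ev_coeff {e : ℕ} {P : Polynomial k} (hP : P.natDegree < e + 1) (x : Fin 5 → k) (s : k) :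
    ev (fun i : Fin (e + 1) => P.coeff (i : ℕ) • x) s = P.eval s • x := by
  rw [ev, Polynomial.eval_eq_sum_range' hP, Finset.sum_smul, Finset.sum_range]
  refine Finset.sum_congr rfl fun i _ => ?_
  rw [smul_smul, mul_comm]

theorem ev_add' {e : ℕ} (a b : A k e) (s : k) : ev (a + b) s = ev a s + ev b s := by
  simp only [ev, Pi.add_apply, smul_add, Finset.sum_add_distrib]

theorem ev_smul' {e : ℕ} (c : k) (a : A k e) (s : k) : ev (c • a) s = c • ev a s := by
  simp only [ev, Pi.smul_apply, Finset.smul_sum]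
  exact Finset.sum_congr rfl fun i _ => smul_comm _ _ _

theorem ev_sum' {e : ℕ} {ι : Type*} (S : Finset ι) (a : ι → A k e) (s : k) :
    ev (∑ m ∈ S, a m) s = ∑ m ∈ S, ev (a m) s := by
  classical
  induction S using Finset.induction_on with
  | empty => simp [ev]
  | insert m S hm ih => rw [Finset.sum_insert hm, Finset.sum_insert hm, ev_add', ih]

/-- the correction term `∑ p_m P_m(s) / P_m(t_m)` -/
noncomputable def corr {e : ℕ} (t : Fin e → k) (p : Fin e → Fin 5 → k) : A k e :=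
  ∑ m, fun i => (Polynomial.C (∏ j ∈ Finset.univ.erase m, (t m - t j))⁻¹ *
    ∏ j ∈ Finset.univ.erase m, (Polynomial.X - Polynomial.C (t j))).coeff (i : ℕ) • p m

theorem ev_corr {e : ℕ} {t : Fin e → k} (ht : Function.Injective t) (p : Fin e → Fin 5 → k) (i : Fin e) :
    ev (corr t p) (t i) = p i := by
  have hdeg : ∀ m : Fin e, (Polynomial.C (∏ j ∈ Finset.univ.erase m, (t m - t j))⁻¹ *
      ∏ j ∈ Finset.univ.erase m, (Polynomial.X - Polynomial.C (t j))).natDegree < e + 1 := by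
    intro m
    refine lt_of_le_of_lt (Polynomial.natDegree_C_mul_le _ _) ?_
    rw [Polynomial.natDegree_prod_of_monic _ _ fun j _ => Polynomial.monic_X_sub_C _]
    simp only [Polynomial.natDegree_X_sub_C, Finset.sum_const, smul_eq_mul, mul_one]
    refine lt_of_le_of_lt (Finset.card_le_univ _) ?_
    simp
  rw [corr, ev_sum', Finset.sum_eq_single i]
  · rw [ev_coeff (hdeg i), Polynomial.eval_mul, Polynomial.eval_C, Polynomial.eval_prod]
    simp only [Polynomial.eval_sub, Polynomial.eval_X, Polynomial.eval_C]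
    rw [inv_mul_cancel₀, one_smul]
    refine Finset.prod_ne_zero_iff.2 fun j hj => sub_ne_zero.2 fun h => ?_
    exact (Finset.mem_erase.1 hj).1 (ht h).symm
  · intro m _ hm
    have h0 : (∏ j ∈ Finset.univ.erase m, (Polynomial.X - Polynomial.C (t j))).eval (t i) = 0 := by
      rw [Polynomial.eval_prod]
      exact Finset.prod_eq_zero (Finset.mem_erase.2 ⟨hm.symm, Finset.mem_univ i⟩) (by simp)
    rw [ev_coeff (hdeg m), Polynomial.eval_mul, h0, mul_zero, zero_smul]
  · intro h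
    exact absurd (Finset.mem_univ _) h

theorem corr_mem {e : ℕ} {t : Fin e → k} {p : Fin e → Fin 5 → k} {S : Submodule k (Fin 5 → k)}
    (h : ∀ i, p i ∈ S) (i : Fin (e + 1)) : corr t p i ∈ S := by
  rw [corr, Finset.sum_apply]
  exact S.sum_mem fun m _ => S.smul_mem _ (h m)

theorem ev_prodCurve {e : ℕ} (x : Fin 5 → k) (t : Fin e → k) (i : Fin e) : ev (prodCurve x t) (t i) = 0 := by
  have h1 : ev (prodCurve x t) (t i) = _ := ev_coeff (e := e)
    (P := ∏ j, (Polynomial.X - Polynomial.C (t j))) (by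
    rw [Polynomial.natDegree_prod_of_monic _ _ fun j _ => Polynomial.monic_X_sub_C _]
    simp) x (t i)
  rw [h1, Polynomial.eval_prod, Finset.prod_eq_zero (Finset.mem_univ i) (by simp), zero_smul]

/-- a comb all of whose teeth lie on one line is a limit of covers of that line -/
theorem comb_mem [Infinite k] {e : ℕ} {x p₀ : Fin 5 → k} {t : Fin e → k} {p : Fin e → Fin 5 → k}
    (hc : IsComb T x t p) (hp : (x, p₀) ∈ FR T) (hconst : ∀ i, p i ∈ Submodule.span k {x, p₀}) :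
    comb x t p ∈ Cl k (Ov (NN T e)) := by
  intro O hO hmem
  let γ : k → Y k e := fun ε => (prodCurve x t + ε • corr t p, t, fun _ => ε, p)
  have hγ : IsPolyMap k γ := by
    refine pm_prodMk (pm_add (isPolyMap_const _) (pm_smul (isPolyMap_iff_isPolyFun.1 isPolyMap_id)
      (isPolyMap_const _))) (pm_prodMk (isPolyMap_const _) (pm_prodMk (pm_pi fun _ => isPolyMap_id)
      (isPolyMap_const _)))
  have h0 : γ 0 = comb x t p := by
    simp only [γ, zero_smul, add_zero, comb]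
    rfl
  obtain ⟨ε, -, h1, h2⟩ := (irr_univ (k := k) (V := k)).2 _ {ε : k | ε ≠ 0} (zo_preimage hO hγ)
    (isZOpen_basic (isPolyMap_iff_isPolyFun.1 isPolyMap_id)) ⟨0, trivial, by rw [Set.mem_preimage, h0]; exact hmem⟩
    ⟨1, trivial, one_ne_zero⟩
  refine ⟨γ ε, ⟨⟨(x, p₀), hp, fun i => ?_⟩, hc.1, fun i => ⟨h2, ?_⟩⟩, h1⟩
  · refine Submodule.add_mem _ (Submodule.smul_mem _ _ (Submodule.subset_span (by simp))) ?_
    exact Submodule.smul_mem _ _ (corr_mem hconst i)
  · show ev (prodCurve x t + ε • corr t p) (t i) = ε • p i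
    rw [ev_add', ev_smul', ev_prodCurve, ev_corr hc.1, zero_add]

/-! ### Rank -/

theorem finrank_le_of_cl {e : ℕ} {a : A k e} (ha : a ∈ Cl k (NN T e)) :
    finrank k ↥(Submodule.span k (Set.range a)) ≤ 2 := by
  classical
  by_contra hcon
  obtain ⟨f, hf⟩ : ∃ f : Fin 3 → Fin (e + 1), LinearIndependent k fun i => a (f i) := by
    obtain ⟨b, hb, hbs, hbi⟩ := exists_linearIndependent k (Set.range a)
    have hbf : b.Finite := (Set.finite_range a).subset hb
    have : Fintype ↥b := hbf.fintype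
    have hcard : Fintype.card ↥b = finrank k ↥(Submodule.span k (Set.range a)) := by
      rw [← hbs]
      have := finrank_span_eq_card hbi
      rw [Subtype.range_coe] at this
      exact this.symm
    have h3 : 3 ≤ Fintype.card ↥b := by omega
    let g : Fin 3 ↪ ↥b := (Fin.castLEEmb h3).trans (Fintype.equivFin ↥b).symm.toEmbedding
    choose f hf using fun i : Fin 3 => hb (g i).2
    refine ⟨f, ?_⟩
    simp only [hf]
    exact hbi.comp g g.injective
  obtain ⟨a', ⟨p, hp, ha'⟩, h'⟩ := ha {a' : A k e | LinearIndependent k fun i => a' (f i)}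
    (K713.RangeOpen.isZOpen_linearIndependent (fun i (a' : A k e) => a' (f i))
      fun i => pm_proj isPolyMap_id (f i)) hf
  have h1 : LinearIndependent k fun i => (⟨a' (f i), ha' (f i)⟩ : ↥(Submodule.span k {p.1, p.2})) :=
    LinearIndependent.of_comp (Submodule.span k {p.1, p.2}).subtype h'
  have h2 := h1.fintype_card_le_finrank
  have h3 : finrank k ↥(Submodule.span k {p.1, p.2}) ≤ 2 := by
    have := finrank_span_le_card (R := k) ({p.1, p.2} : Set (Fin 5 → k))
    refine this.trans ?_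
    rw [Set.toFinset_insert, Set.toFinset_singleton]
    exact Finset.card_le_two
  simp at h2
  omega

/-! ### Closures -/

section Closure

variable {V : Type u} [AddCommGroup V] [Module k V]

theorem subset_cl (S : Set V) : S ⊆ Cl k S := fun v hv _ _ h => ⟨v, hv, h⟩

theorem isZOpen_compl_cl (S : Set V) : IsZOpen k (Cl k S)ᶜ := by
  intro v hv
  simp only [Cl, Set.mem_compl_iff, Set.mem_ofPred_eq, not_forall] at hv
  obtain ⟨O, hO, hvO, hS⟩ := hv
  obtain ⟨f, hf, hfv, hfO⟩ := hO v hvO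
  exact ⟨f, hf, hfv, fun w hw hcl => hS (hcl O hO (hfO w hw))⟩

theorem cl_subset {S X : Set V} (h : S ⊆ X) (hX : IsZOpen k Xᶜ) : Cl k S ⊆ X := by
  intro v hv
  by_contra hvX
  obtain ⟨w, hw, hwX⟩ := hv _ hX hvX
  exact hwX (h hw)

theorem irr_cl {S : Set V} (hS : Irr k S) : Irr k (Cl k S) :=
  hS.of_dense (subset_cl S) fun _ hv O hO hvO => hv O hO hvO

theorem cl_mono {S S' : Set V} (h : S ⊆ S') : Cl k S ⊆ Cl k S' := fun _ hv O hO hvO =>
  (hv O hO hvO).mono (Set.inter_subset_inter_left O h)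

end Closure

theorem pf_cube {V : Type u} [AddCommGroup V] [Module k V] {φ : V → Fin 5 → k} (hφ : IsPolyMap k φ) :
    IsPolyFun k (fun v => T (φ v) (φ v) (φ v)) := by
  have h1 : IsPolyMap k (fun v => T (φ v) (φ v)) := K713.RangeOpen.pm_bilin T hφ hφ
  exact isPolyMap_iff_isPolyFun.1
    (K713.RangeOpen.pm_bilin (LinearMap.id : ((Fin 5 → k) →ₗ[k] k) →ₗ[k] ((Fin 5 → k) →ₗ[k] k)) h1 hφ)

theorem pm_ev (e : ℕ) (s : k) : IsPolyMap k (fun a : A k e => ev a s) :=
  pm_sum _ fun i _ => pm_smul (isPolyFun_const _) (pm_proj isPolyMap_id i)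

theorem isZOpen_compl_Z (e : ℕ) : IsZOpen k (Z T e)ᶜ := by
  intro a ha
  simp only [Z, Set.mem_compl_iff, Set.mem_ofPred_eq, not_forall] at ha
  obtain ⟨s, hs⟩ := ha
  exact ⟨_, pf_cube (T := T) (pm_ev e s), hs, fun a' ha' hmem => ha' (hmem s)⟩

/-! ### The node -/

theorem ov_mono {e : ℕ} {W W' : Set (A k e)} (h : W ⊆ W') : Ov W ⊆ Ov W' := fun _ hy => ⟨h hy.1, hy.2⟩

section Node

variable [IsAlgClosed k] [CharZero k]

/-- frames of lines: dimension six -/
theorem dimGE_FR (hT : IsSym3 T) (hsm : SmoothOn T ⊤)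
    (exists_comp : ∀ {X S : Set ((Fin 5 → k) × (Fin 5 → k))}, IsZOpen k Xᶜ → Irr k S → S ⊆ X →
      ∃ C, IsComp k X C ∧ S ⊆ C)
    (pit : ∀ {r : ℕ} {h : Fin r → ((Fin 5 → k) × (Fin 5 → k)) → k}, (∀ i, IsPolyFun k (h i)) →
      ∀ {C : Set ((Fin 5 → k) × (Fin 5 → k))}, IsComp k {v | ∀ i, h i v = 0} C →
      ∀ {d : ℕ}, d + r ≤ finrank k ((Fin 5 → k) × (Fin 5 → k)) → DimGE k C d) :
    DimGE k (FR T) 6 := by
  have hF := K714.Frames.frames_irr hT hsm
  let h : Fin 4 → ((Fin 5 → k) × (Fin 5 → k)) → k :=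
    ![fun p => T p.1 p.1 p.1, fun p => T p.1 p.1 p.2, fun p => T p.1 p.2 p.2, fun p => T p.2 p.2 p.2]
  have hT3 : ∀ {φ ψ χ : ((Fin 5 → k) × (Fin 5 → k)) → Fin 5 → k}, IsPolyMap k φ → IsPolyMap k ψ →
      IsPolyMap k χ → IsPolyFun k (fun v => T (φ v) (ψ v) (χ v)) := fun h1 h2 h3 =>
    isPolyMap_iff_isPolyFun.1
      (K713.RangeOpen.pm_bilin (LinearMap.id : ((Fin 5 → k) →ₗ[k] k) →ₗ[k] ((Fin 5 → k) →ₗ[k] k))
        (K713.RangeOpen.pm_bilin T h1 h2) h3)
  have hh : ∀ i, IsPolyFun k (h i) := by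
    intro i
    fin_cases i
    · exact hT3 isPolyMap_fst isPolyMap_fst isPolyMap_fst
    · exact hT3 isPolyMap_fst isPolyMap_fst isPolyMap_snd
    · exact hT3 isPolyMap_fst isPolyMap_snd isPolyMap_snd
    · exact hT3 isPolyMap_snd isPolyMap_snd isPolyMap_snd
  have hX : IsZOpen k {v | ∀ i, h i v = 0}ᶜ := by
    intro v hv
    simp only [Set.mem_compl_iff, Set.mem_ofPred_eq, not_forall] at hv
    obtain ⟨i, hi⟩ := hv
    exact ⟨h i, hh i, hi, fun w hw hmem => hw (hmem i)⟩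
  obtain ⟨C, hC, hFC⟩ := exists_comp hX hF (fun p hp i => by
    fin_cases i
    · exact hp.2.1
    · exact hp.2.2.1
    · exact hp.2.2.2.1
    · exact hp.2.2.2.2)
  have h6 := pit hh hC (d := 6) (by simp)
  obtain ⟨p, hp⟩ := hF.1
  refine K305.DimA.DimGE.mono ?_
    (K305.DimA.DimGE.inter_open hC.2.1 K714.Frames.isZOpen_indep ⟨p, hFC hp, hp.1⟩ h6)
  rintro q ⟨hq, hq'⟩
  have hq0 := hC.1 hq
  exact ⟨hq', hq0 0, hq0 1, hq0 2, hq0 3⟩

/-- covers of lines form a component -/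
theorem isComp_NN (hT : IsSym3 T) (hsm : SmoothOn T ⊤) (h6 : DimGE k (FR T) 6) {e : ℕ} (he : 1 ≤ e)
    (hA : DimLE k (Z T e) (2 * e + 4)) : IsComp k (Z T e) (Cl k (NN T e)) := by
  have : Infinite k := IsAlgClosed.instInfinite
  have hF := K714.Frames.frames_irr hT hsm
  refine ⟨cl_subset (NN_subset hT) (isZOpen_compl_Z e), irr_cl (irr_NN hF e), fun C' hC' hirr hsub => ?_⟩
  exact (K305.DimA.eq_of_dim hirr hsub (isZOpen_compl_cl _)
    (K305.DimA.DimGE.mono (subset_cl _) (dimGE_NN hF h6 he)) (K305.DimA.DimLE.mono hC' hA)).symm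

/-- **Node NE**: combs with all teeth on one line come from covers of lines. -/
theorem rank_le_of_const (hT : IsSym3 T) (hsm : SmoothOn T ⊤) {e : ℕ} (he : 1 ≤ e) (h6 : DimGE k (FR T) 6)
    (hA : DimLE k (Z T e) (2 * e + 4))
    (ov_subset : ∀ {W : Set (A k e)}, W ⊆ Z T e → Ov W ⊆ Chart T e)
    (irr_ov : ∀ {W : Set (A k e)}, Irr k W → Irr k (Ov W))
    {x : Fin 5 → k}
    (comp_unique : ∀ {t t' : Fin e → k} {p p' : Fin e → Fin 5 → k}, IsComb T x t p → IsComb T x t' p' →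
      ∀ {W W' : Set (A k e)}, IsComp k (Z T e) W → IsComp k (Z T e) W' → comb x t p ∈ Cl k (Ov W) →
      comb x t' p' ∈ Cl k (Ov W') → ∀ {S : Set (Y k e)}, S ⊆ Chart T e → Irr k S → comb x t p ∈ Cl k S →
      comb x t' p' ∈ Cl k S → W = W')
    {W : Set (A k e)} (hW : IsComp k (Z T e) W) {t : Fin e → k}
    {p : Fin e → Fin 5 → k} (hc : IsComb T x t p) {p₀ : Fin 5 → k} (hp : (x, p₀) ∈ FR T)
    (hconst : ∀ i, p i ∈ Submodule.span k {x, p₀}) (h : comb x t p ∈ Cl k (Ov W)) {a : A k e} (ha : a ∈ W) :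
    finrank k ↥(Submodule.span k (Set.range a)) ≤ 2 := by
  have : Infinite k := IsAlgClosed.instInfinite
  have hN := isComp_NN hT hsm h6 he hA
  have h1 : comb x t p ∈ Cl k (Ov (Cl k (NN T e))) := cl_mono (ov_mono (subset_cl _)) (comb_mem hc hp hconst)
  have h2 := comp_unique hc hc hW hN h h1 (ov_subset hN.1) (irr_ov hN.2.1) h1 h1
  subst h2
  exact finrank_le_of_cl ha

end Node

end K805.LineCov
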